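import Cfsg.Agent.J4NonLocal.UEleven.Data.Nodes0
import Cfsg.Agent.J4NonLocal.UEleven.Data.Nodes1
import Cfsg.Agent.J4NonLocal.UEleven.Data.Nodes2
import Cfsg.Agent.J4NonLocal.UEleven.Data.Nodes3
import Cfsg.Agent.J4NonLocal.UEleven.Data.Nodes4
import Cfsg.Agent.J4NonLocal.UEleven.Data.Nodes5

/-!
The table of the nodes and how they arise.
-/

set_option autoImplicit false
set_option maxRecDepth 8000

namespace Cfsg.Lib.J4NonLocal.UEleven

open Cfsg.Lib.J4Cert

def ndTree0 : Tr (List ℕ) := .node (.leaf nd0) (.leaf nd256)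

def ndTree1 : Tr (List ℕ) := .node (.leaf nd128) (.leaf nd384)

def ndTree2 : Tr (List ℕ) := .node ndTree0 ndTree1

def ndTree3 : Tr (List ℕ) := .node (.leaf nd64) (.leaf nd320)

def ndTree4 : Tr (List ℕ) := .node ndTree3 (.leaf nd192)

def ndTree5 : Tr (List ℕ) := .node ndTree2 ndTree4

def ndTree6 : Tr (List ℕ) := .node (.leaf nd32) (.leaf nd288)

def ndTree7 : Tr (List ℕ) := .node (.leaf nd160) (.leaf nd416)

def ndTree8 : Tr (List ℕ) := .node ndTree6 ndTree7

def ndTree9 : Tr (List ℕ) := .node (.leaf nd96) (.leaf nd352)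

def ndTree10 : Tr (List ℕ) := .node ndTree9 (.leaf nd224)

def ndTree11 : Tr (List ℕ) := .node ndTree8 ndTree10

def ndTree12 : Tr (List ℕ) := .node ndTree5 ndTree11

def ndTree13 : Tr (List ℕ) := .node (.leaf nd16) (.leaf nd272)

def ndTree14 : Tr (List ℕ) := .node (.leaf nd144) (.leaf nd400)

def ndTree15 : Tr (List ℕ) := .node ndTree13 ndTree14

def ndTree16 : Tr (List ℕ) := .node (.leaf nd80) (.leaf nd336)

def ndTree17 : Tr (List ℕ) := .node ndTree16 (.leaf nd208)

def ndTree18 : Tr (List ℕ) := .node ndTree15 ndTree17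

def ndTree19 : Tr (List ℕ) := .node (.leaf nd48) (.leaf nd304)

def ndTree20 : Tr (List ℕ) := .node ndTree19 (.leaf nd176)

def ndTree21 : Tr (List ℕ) := .node (.leaf nd112) (.leaf nd368)

def ndTree22 : Tr (List ℕ) := .node ndTree21 (.leaf nd240)

def ndTree23 : Tr (List ℕ) := .node ndTree20 ndTree22

def ndTree24 : Tr (List ℕ) := .node ndTree18 ndTree23

def ndTree25 : Tr (List ℕ) := .node ndTree12 ndTree24

def ndTree26 : Tr (List ℕ) := .node (.leaf nd8) (.leaf nd264)

def ndTree27 : Tr (List ℕ) := .node (.leaf nd136) (.leaf nd392)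

def ndTree28 : Tr (List ℕ) := .node ndTree26 ndTree27

def ndTree29 : Tr (List ℕ) := .node (.leaf nd72) (.leaf nd328)

def ndTree30 : Tr (List ℕ) := .node ndTree29 (.leaf nd200)

def ndTree31 : Tr (List ℕ) := .node ndTree28 ndTree30

def ndTree32 : Tr (List ℕ) := .node (.leaf nd40) (.leaf nd296)

def ndTree33 : Tr (List ℕ) := .node ndTree32 (.leaf nd168)

def ndTree34 : Tr (List ℕ) := .node (.leaf nd104) (.leaf nd360)

def ndTree35 : Tr (List ℕ) := .node ndTree34 (.leaf nd232)

def ndTree36 : Tr (List ℕ) := .node ndTree33 ndTree35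

def ndTree37 : Tr (List ℕ) := .node ndTree31 ndTree36

def ndTree38 : Tr (List ℕ) := .node (.leaf nd24) (.leaf nd280)

def ndTree39 : Tr (List ℕ) := .node (.leaf nd152) (.leaf nd408)

def ndTree40 : Tr (List ℕ) := .node ndTree38 ndTree39

def ndTree41 : Tr (List ℕ) := .node (.leaf nd88) (.leaf nd344)

def ndTree42 : Tr (List ℕ) := .node ndTree41 (.leaf nd216)

def ndTree43 : Tr (List ℕ) := .node ndTree40 ndTree42

def ndTree44 : Tr (List ℕ) := .node (.leaf nd56) (.leaf nd312)

def ndTree45 : Tr (List ℕ) := .node ndTree44 (.leaf nd184)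

def ndTree46 : Tr (List ℕ) := .node (.leaf nd120) (.leaf nd376)

def ndTree47 : Tr (List ℕ) := .node ndTree46 (.leaf nd248)

def ndTree48 : Tr (List ℕ) := .node ndTree45 ndTree47

def ndTree49 : Tr (List ℕ) := .node ndTree43 ndTree48

def ndTree50 : Tr (List ℕ) := .node ndTree37 ndTree49

def ndTree51 : Tr (List ℕ) := .node ndTree25 ndTree50

def ndTree52 : Tr (List ℕ) := .node (.leaf nd4) (.leaf nd260)

def ndTree53 : Tr (List ℕ) := .node (.leaf nd132) (.leaf nd388)

def ndTree54 : Tr (List ℕ) := .node ndTree52 ndTree53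

def ndTree55 : Tr (List ℕ) := .node (.leaf nd68) (.leaf nd324)

def ndTree56 : Tr (List ℕ) := .node ndTree55 (.leaf nd196)

def ndTree57 : Tr (List ℕ) := .node ndTree54 ndTree56

def ndTree58 : Tr (List ℕ) := .node (.leaf nd36) (.leaf nd292)

def ndTree59 : Tr (List ℕ) := .node ndTree58 (.leaf nd164)

def ndTree60 : Tr (List ℕ) := .node (.leaf nd100) (.leaf nd356)

def ndTree61 : Tr (List ℕ) := .node ndTree60 (.leaf nd228)

def ndTree62 : Tr (List ℕ) := .node ndTree59 ndTree61

def ndTree63 : Tr (List ℕ) := .node ndTree57 ndTree62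

def ndTree64 : Tr (List ℕ) := .node (.leaf nd20) (.leaf nd276)

def ndTree65 : Tr (List ℕ) := .node (.leaf nd148) (.leaf nd404)

def ndTree66 : Tr (List ℕ) := .node ndTree64 ndTree65

def ndTree67 : Tr (List ℕ) := .node (.leaf nd84) (.leaf nd340)

def ndTree68 : Tr (List ℕ) := .node ndTree67 (.leaf nd212)

def ndTree69 : Tr (List ℕ) := .node ndTree66 ndTree68

def ndTree70 : Tr (List ℕ) := .node (.leaf nd52) (.leaf nd308)

def ndTree71 : Tr (List ℕ) := .node ndTree70 (.leaf nd180)

def ndTree72 : Tr (List ℕ) := .node (.leaf nd116) (.leaf nd372)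

def ndTree73 : Tr (List ℕ) := .node ndTree72 (.leaf nd244)

def ndTree74 : Tr (List ℕ) := .node ndTree71 ndTree73

def ndTree75 : Tr (List ℕ) := .node ndTree69 ndTree74

def ndTree76 : Tr (List ℕ) := .node ndTree63 ndTree75

def ndTree77 : Tr (List ℕ) := .node (.leaf nd12) (.leaf nd268)

def ndTree78 : Tr (List ℕ) := .node (.leaf nd140) (.leaf nd396)

def ndTree79 : Tr (List ℕ) := .node ndTree77 ndTree78

def ndTree80 : Tr (List ℕ) := .node (.leaf nd76) (.leaf nd332)

def ndTree81 : Tr (List ℕ) := .node ndTree80 (.leaf nd204)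

def ndTree82 : Tr (List ℕ) := .node ndTree79 ndTree81

def ndTree83 : Tr (List ℕ) := .node (.leaf nd44) (.leaf nd300)

def ndTree84 : Tr (List ℕ) := .node ndTree83 (.leaf nd172)

def ndTree85 : Tr (List ℕ) := .node (.leaf nd108) (.leaf nd364)

def ndTree86 : Tr (List ℕ) := .node ndTree85 (.leaf nd236)

def ndTree87 : Tr (List ℕ) := .node ndTree84 ndTree86

def ndTree88 : Tr (List ℕ) := .node ndTree82 ndTree87

def ndTree89 : Tr (List ℕ) := .node (.leaf nd28) (.leaf nd284)

def ndTree90 : Tr (List ℕ) := .node (.leaf nd156) (.leaf nd412)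

def ndTree91 : Tr (List ℕ) := .node ndTree89 ndTree90

def ndTree92 : Tr (List ℕ) := .node (.leaf nd92) (.leaf nd348)

def ndTree93 : Tr (List ℕ) := .node ndTree92 (.leaf nd220)

def ndTree94 : Tr (List ℕ) := .node ndTree91 ndTree93

def ndTree95 : Tr (List ℕ) := .node (.leaf nd60) (.leaf nd316)

def ndTree96 : Tr (List ℕ) := .node ndTree95 (.leaf nd188)

def ndTree97 : Tr (List ℕ) := .node (.leaf nd124) (.leaf nd380)

def ndTree98 : Tr (List ℕ) := .node ndTree97 (.leaf nd252)

def ndTree99 : Tr (List ℕ) := .node ndTree96 ndTree98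

def ndTree100 : Tr (List ℕ) := .node ndTree94 ndTree99

def ndTree101 : Tr (List ℕ) := .node ndTree88 ndTree100

def ndTree102 : Tr (List ℕ) := .node ndTree76 ndTree101

def ndTree103 : Tr (List ℕ) := .node ndTree51 ndTree102

def ndTree104 : Tr (List ℕ) := .node (.leaf nd2) (.leaf nd258)

def ndTree105 : Tr (List ℕ) := .node (.leaf nd130) (.leaf nd386)

def ndTree106 : Tr (List ℕ) := .node ndTree104 ndTree105

def ndTree107 : Tr (List ℕ) := .node (.leaf nd66) (.leaf nd322)

def ndTree108 : Tr (List ℕ) := .node ndTree107 (.leaf nd194)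

def ndTree109 : Tr (List ℕ) := .node ndTree106 ndTree108

def ndTree110 : Tr (List ℕ) := .node (.leaf nd34) (.leaf nd290)

def ndTree111 : Tr (List ℕ) := .node ndTree110 (.leaf nd162)

def ndTree112 : Tr (List ℕ) := .node (.leaf nd98) (.leaf nd354)

def ndTree113 : Tr (List ℕ) := .node ndTree112 (.leaf nd226)

def ndTree114 : Tr (List ℕ) := .node ndTree111 ndTree113

def ndTree115 : Tr (List ℕ) := .node ndTree109 ndTree114

def ndTree116 : Tr (List ℕ) := .node (.leaf nd18) (.leaf nd274)

def ndTree117 : Tr (List ℕ) := .node (.leaf nd146) (.leaf nd402)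

def ndTree118 : Tr (List ℕ) := .node ndTree116 ndTree117

def ndTree119 : Tr (List ℕ) := .node (.leaf nd82) (.leaf nd338)

def ndTree120 : Tr (List ℕ) := .node ndTree119 (.leaf nd210)

def ndTree121 : Tr (List ℕ) := .node ndTree118 ndTree120

def ndTree122 : Tr (List ℕ) := .node (.leaf nd50) (.leaf nd306)

def ndTree123 : Tr (List ℕ) := .node ndTree122 (.leaf nd178)

def ndTree124 : Tr (List ℕ) := .node (.leaf nd114) (.leaf nd370)

def ndTree125 : Tr (List ℕ) := .node ndTree124 (.leaf nd242)

def ndTree126 : Tr (List ℕ) := .node ndTree123 ndTree125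

def ndTree127 : Tr (List ℕ) := .node ndTree121 ndTree126

def ndTree128 : Tr (List ℕ) := .node ndTree115 ndTree127

def ndTree129 : Tr (List ℕ) := .node (.leaf nd10) (.leaf nd266)

def ndTree130 : Tr (List ℕ) := .node (.leaf nd138) (.leaf nd394)

def ndTree131 : Tr (List ℕ) := .node ndTree129 ndTree130

def ndTree132 : Tr (List ℕ) := .node (.leaf nd74) (.leaf nd330)

def ndTree133 : Tr (List ℕ) := .node ndTree132 (.leaf nd202)

def ndTree134 : Tr (List ℕ) := .node ndTree131 ndTree133

def ndTree135 : Tr (List ℕ) := .node (.leaf nd42) (.leaf nd298)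

def ndTree136 : Tr (List ℕ) := .node ndTree135 (.leaf nd170)

def ndTree137 : Tr (List ℕ) := .node (.leaf nd106) (.leaf nd362)

def ndTree138 : Tr (List ℕ) := .node ndTree137 (.leaf nd234)

def ndTree139 : Tr (List ℕ) := .node ndTree136 ndTree138

def ndTree140 : Tr (List ℕ) := .node ndTree134 ndTree139

def ndTree141 : Tr (List ℕ) := .node (.leaf nd26) (.leaf nd282)

def ndTree142 : Tr (List ℕ) := .node (.leaf nd154) (.leaf nd410)

def ndTree143 : Tr (List ℕ) := .node ndTree141 ndTree142

def ndTree144 : Tr (List ℕ) := .node (.leaf nd90) (.leaf nd346)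

def ndTree145 : Tr (List ℕ) := .node ndTree144 (.leaf nd218)

def ndTree146 : Tr (List ℕ) := .node ndTree143 ndTree145

def ndTree147 : Tr (List ℕ) := .node (.leaf nd58) (.leaf nd314)

def ndTree148 : Tr (List ℕ) := .node ndTree147 (.leaf nd186)

def ndTree149 : Tr (List ℕ) := .node (.leaf nd122) (.leaf nd378)

def ndTree150 : Tr (List ℕ) := .node ndTree149 (.leaf nd250)

def ndTree151 : Tr (List ℕ) := .node ndTree148 ndTree150

def ndTree152 : Tr (List ℕ) := .node ndTree146 ndTree151

def ndTree153 : Tr (List ℕ) := .node ndTree140 ndTree152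

def ndTree154 : Tr (List ℕ) := .node ndTree128 ndTree153

def ndTree155 : Tr (List ℕ) := .node (.leaf nd6) (.leaf nd262)

def ndTree156 : Tr (List ℕ) := .node (.leaf nd134) (.leaf nd390)

def ndTree157 : Tr (List ℕ) := .node ndTree155 ndTree156

def ndTree158 : Tr (List ℕ) := .node (.leaf nd70) (.leaf nd326)

def ndTree159 : Tr (List ℕ) := .node ndTree158 (.leaf nd198)

def ndTree160 : Tr (List ℕ) := .node ndTree157 ndTree159

def ndTree161 : Tr (List ℕ) := .node (.leaf nd38) (.leaf nd294)

def ndTree162 : Tr (List ℕ) := .node ndTree161 (.leaf nd166)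

def ndTree163 : Tr (List ℕ) := .node (.leaf nd102) (.leaf nd358)

def ndTree164 : Tr (List ℕ) := .node ndTree163 (.leaf nd230)

def ndTree165 : Tr (List ℕ) := .node ndTree162 ndTree164

def ndTree166 : Tr (List ℕ) := .node ndTree160 ndTree165

def ndTree167 : Tr (List ℕ) := .node (.leaf nd22) (.leaf nd278)

def ndTree168 : Tr (List ℕ) := .node (.leaf nd150) (.leaf nd406)

def ndTree169 : Tr (List ℕ) := .node ndTree167 ndTree168

def ndTree170 : Tr (List ℕ) := .node (.leaf nd86) (.leaf nd342)

def ndTree171 : Tr (List ℕ) := .node ndTree170 (.leaf nd214)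

def ndTree172 : Tr (List ℕ) := .node ndTree169 ndTree171

def ndTree173 : Tr (List ℕ) := .node (.leaf nd54) (.leaf nd310)

def ndTree174 : Tr (List ℕ) := .node ndTree173 (.leaf nd182)

def ndTree175 : Tr (List ℕ) := .node (.leaf nd118) (.leaf nd374)

def ndTree176 : Tr (List ℕ) := .node ndTree175 (.leaf nd246)

def ndTree177 : Tr (List ℕ) := .node ndTree174 ndTree176

def ndTree178 : Tr (List ℕ) := .node ndTree172 ndTree177

def ndTree179 : Tr (List ℕ) := .node ndTree166 ndTree178

def ndTree180 : Tr (List ℕ) := .node (.leaf nd14) (.leaf nd270)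

def ndTree181 : Tr (List ℕ) := .node (.leaf nd142) (.leaf nd398)

def ndTree182 : Tr (List ℕ) := .node ndTree180 ndTree181

def ndTree183 : Tr (List ℕ) := .node (.leaf nd78) (.leaf nd334)

def ndTree184 : Tr (List ℕ) := .node ndTree183 (.leaf nd206)

def ndTree185 : Tr (List ℕ) := .node ndTree182 ndTree184

def ndTree186 : Tr (List ℕ) := .node (.leaf nd46) (.leaf nd302)

def ndTree187 : Tr (List ℕ) := .node ndTree186 (.leaf nd174)

def ndTree188 : Tr (List ℕ) := .node (.leaf nd110) (.leaf nd366)

def ndTree189 : Tr (List ℕ) := .node ndTree188 (.leaf nd238)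

def ndTree190 : Tr (List ℕ) := .node ndTree187 ndTree189

def ndTree191 : Tr (List ℕ) := .node ndTree185 ndTree190

def ndTree192 : Tr (List ℕ) := .node (.leaf nd30) (.leaf nd286)

def ndTree193 : Tr (List ℕ) := .node (.leaf nd158) (.leaf nd414)

def ndTree194 : Tr (List ℕ) := .node ndTree192 ndTree193

def ndTree195 : Tr (List ℕ) := .node (.leaf nd94) (.leaf nd350)

def ndTree196 : Tr (List ℕ) := .node ndTree195 (.leaf nd222)

def ndTree197 : Tr (List ℕ) := .node ndTree194 ndTree196

def ndTree198 : Tr (List ℕ) := .node (.leaf nd62) (.leaf nd318)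

def ndTree199 : Tr (List ℕ) := .node ndTree198 (.leaf nd190)

def ndTree200 : Tr (List ℕ) := .node (.leaf nd126) (.leaf nd382)

def ndTree201 : Tr (List ℕ) := .node ndTree200 (.leaf nd254)

def ndTree202 : Tr (List ℕ) := .node ndTree199 ndTree201

def ndTree203 : Tr (List ℕ) := .node ndTree197 ndTree202

def ndTree204 : Tr (List ℕ) := .node ndTree191 ndTree203

def ndTree205 : Tr (List ℕ) := .node ndTree179 ndTree204

def ndTree206 : Tr (List ℕ) := .node ndTree154 ndTree205

def ndTree207 : Tr (List ℕ) := .node ndTree103 ndTree206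

def ndTree208 : Tr (List ℕ) := .node (.leaf nd1) (.leaf nd257)

def ndTree209 : Tr (List ℕ) := .node (.leaf nd129) (.leaf nd385)

def ndTree210 : Tr (List ℕ) := .node ndTree208 ndTree209

def ndTree211 : Tr (List ℕ) := .node (.leaf nd65) (.leaf nd321)

def ndTree212 : Tr (List ℕ) := .node ndTree211 (.leaf nd193)

def ndTree213 : Tr (List ℕ) := .node ndTree210 ndTree212

def ndTree214 : Tr (List ℕ) := .node (.leaf nd33) (.leaf nd289)

def ndTree215 : Tr (List ℕ) := .node ndTree214 (.leaf nd161)

def ndTree216 : Tr (List ℕ) := .node (.leaf nd97) (.leaf nd353)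

def ndTree217 : Tr (List ℕ) := .node ndTree216 (.leaf nd225)

def ndTree218 : Tr (List ℕ) := .node ndTree215 ndTree217

def ndTree219 : Tr (List ℕ) := .node ndTree213 ndTree218

def ndTree220 : Tr (List ℕ) := .node (.leaf nd17) (.leaf nd273)

def ndTree221 : Tr (List ℕ) := .node (.leaf nd145) (.leaf nd401)

def ndTree222 : Tr (List ℕ) := .node ndTree220 ndTree221

def ndTree223 : Tr (List ℕ) := .node (.leaf nd81) (.leaf nd337)

def ndTree224 : Tr (List ℕ) := .node ndTree223 (.leaf nd209)

def ndTree225 : Tr (List ℕ) := .node ndTree222 ndTree224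

def ndTree226 : Tr (List ℕ) := .node (.leaf nd49) (.leaf nd305)

def ndTree227 : Tr (List ℕ) := .node ndTree226 (.leaf nd177)

def ndTree228 : Tr (List ℕ) := .node (.leaf nd113) (.leaf nd369)

def ndTree229 : Tr (List ℕ) := .node ndTree228 (.leaf nd241)

def ndTree230 : Tr (List ℕ) := .node ndTree227 ndTree229

def ndTree231 : Tr (List ℕ) := .node ndTree225 ndTree230

def ndTree232 : Tr (List ℕ) := .node ndTree219 ndTree231

def ndTree233 : Tr (List ℕ) := .node (.leaf nd9) (.leaf nd265)

def ndTree234 : Tr (List ℕ) := .node (.leaf nd137) (.leaf nd393)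

def ndTree235 : Tr (List ℕ) := .node ndTree233 ndTree234

def ndTree236 : Tr (List ℕ) := .node (.leaf nd73) (.leaf nd329)

def ndTree237 : Tr (List ℕ) := .node ndTree236 (.leaf nd201)

def ndTree238 : Tr (List ℕ) := .node ndTree235 ndTree237

def ndTree239 : Tr (List ℕ) := .node (.leaf nd41) (.leaf nd297)

def ndTree240 : Tr (List ℕ) := .node ndTree239 (.leaf nd169)

def ndTree241 : Tr (List ℕ) := .node (.leaf nd105) (.leaf nd361)

def ndTree242 : Tr (List ℕ) := .node ndTree241 (.leaf nd233)

def ndTree243 : Tr (List ℕ) := .node ndTree240 ndTree242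

def ndTree244 : Tr (List ℕ) := .node ndTree238 ndTree243

def ndTree245 : Tr (List ℕ) := .node (.leaf nd25) (.leaf nd281)

def ndTree246 : Tr (List ℕ) := .node (.leaf nd153) (.leaf nd409)

def ndTree247 : Tr (List ℕ) := .node ndTree245 ndTree246

def ndTree248 : Tr (List ℕ) := .node (.leaf nd89) (.leaf nd345)

def ndTree249 : Tr (List ℕ) := .node ndTree248 (.leaf nd217)

def ndTree250 : Tr (List ℕ) := .node ndTree247 ndTree249

def ndTree251 : Tr (List ℕ) := .node (.leaf nd57) (.leaf nd313)

def ndTree252 : Tr (List ℕ) := .node ndTree251 (.leaf nd185)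

def ndTree253 : Tr (List ℕ) := .node (.leaf nd121) (.leaf nd377)

def ndTree254 : Tr (List ℕ) := .node ndTree253 (.leaf nd249)

def ndTree255 : Tr (List ℕ) := .node ndTree252 ndTree254

def ndTree256 : Tr (List ℕ) := .node ndTree250 ndTree255

def ndTree257 : Tr (List ℕ) := .node ndTree244 ndTree256

def ndTree258 : Tr (List ℕ) := .node ndTree232 ndTree257

def ndTree259 : Tr (List ℕ) := .node (.leaf nd5) (.leaf nd261)

def ndTree260 : Tr (List ℕ) := .node (.leaf nd133) (.leaf nd389)

def ndTree261 : Tr (List ℕ) := .node ndTree259 ndTree260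

def ndTree262 : Tr (List ℕ) := .node (.leaf nd69) (.leaf nd325)

def ndTree263 : Tr (List ℕ) := .node ndTree262 (.leaf nd197)

def ndTree264 : Tr (List ℕ) := .node ndTree261 ndTree263

def ndTree265 : Tr (List ℕ) := .node (.leaf nd37) (.leaf nd293)

def ndTree266 : Tr (List ℕ) := .node ndTree265 (.leaf nd165)

def ndTree267 : Tr (List ℕ) := .node (.leaf nd101) (.leaf nd357)

def ndTree268 : Tr (List ℕ) := .node ndTree267 (.leaf nd229)

def ndTree269 : Tr (List ℕ) := .node ndTree266 ndTree268

def ndTree270 : Tr (List ℕ) := .node ndTree264 ndTree269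

def ndTree271 : Tr (List ℕ) := .node (.leaf nd21) (.leaf nd277)

def ndTree272 : Tr (List ℕ) := .node (.leaf nd149) (.leaf nd405)

def ndTree273 : Tr (List ℕ) := .node ndTree271 ndTree272

def ndTree274 : Tr (List ℕ) := .node (.leaf nd85) (.leaf nd341)

def ndTree275 : Tr (List ℕ) := .node ndTree274 (.leaf nd213)

def ndTree276 : Tr (List ℕ) := .node ndTree273 ndTree275

def ndTree277 : Tr (List ℕ) := .node (.leaf nd53) (.leaf nd309)

def ndTree278 : Tr (List ℕ) := .node ndTree277 (.leaf nd181)

def ndTree279 : Tr (List ℕ) := .node (.leaf nd117) (.leaf nd373)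

def ndTree280 : Tr (List ℕ) := .node ndTree279 (.leaf nd245)

def ndTree281 : Tr (List ℕ) := .node ndTree278 ndTree280

def ndTree282 : Tr (List ℕ) := .node ndTree276 ndTree281

def ndTree283 : Tr (List ℕ) := .node ndTree270 ndTree282

def ndTree284 : Tr (List ℕ) := .node (.leaf nd13) (.leaf nd269)

def ndTree285 : Tr (List ℕ) := .node (.leaf nd141) (.leaf nd397)

def ndTree286 : Tr (List ℕ) := .node ndTree284 ndTree285

def ndTree287 : Tr (List ℕ) := .node (.leaf nd77) (.leaf nd333)

def ndTree288 : Tr (List ℕ) := .node ndTree287 (.leaf nd205)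

def ndTree289 : Tr (List ℕ) := .node ndTree286 ndTree288

def ndTree290 : Tr (List ℕ) := .node (.leaf nd45) (.leaf nd301)

def ndTree291 : Tr (List ℕ) := .node ndTree290 (.leaf nd173)

def ndTree292 : Tr (List ℕ) := .node (.leaf nd109) (.leaf nd365)

def ndTree293 : Tr (List ℕ) := .node ndTree292 (.leaf nd237)

def ndTree294 : Tr (List ℕ) := .node ndTree291 ndTree293

def ndTree295 : Tr (List ℕ) := .node ndTree289 ndTree294

def ndTree296 : Tr (List ℕ) := .node (.leaf nd29) (.leaf nd285)

def ndTree297 : Tr (List ℕ) := .node (.leaf nd157) (.leaf nd413)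

def ndTree298 : Tr (List ℕ) := .node ndTree296 ndTree297

def ndTree299 : Tr (List ℕ) := .node (.leaf nd93) (.leaf nd349)

def ndTree300 : Tr (List ℕ) := .node ndTree299 (.leaf nd221)

def ndTree301 : Tr (List ℕ) := .node ndTree298 ndTree300

def ndTree302 : Tr (List ℕ) := .node (.leaf nd61) (.leaf nd317)

def ndTree303 : Tr (List ℕ) := .node ndTree302 (.leaf nd189)

def ndTree304 : Tr (List ℕ) := .node (.leaf nd125) (.leaf nd381)

def ndTree305 : Tr (List ℕ) := .node ndTree304 (.leaf nd253)

def ndTree306 : Tr (List ℕ) := .node ndTree303 ndTree305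

def ndTree307 : Tr (List ℕ) := .node ndTree301 ndTree306

def ndTree308 : Tr (List ℕ) := .node ndTree295 ndTree307

def ndTree309 : Tr (List ℕ) := .node ndTree283 ndTree308

def ndTree310 : Tr (List ℕ) := .node ndTree258 ndTree309

def ndTree311 : Tr (List ℕ) := .node (.leaf nd3) (.leaf nd259)

def ndTree312 : Tr (List ℕ) := .node (.leaf nd131) (.leaf nd387)

def ndTree313 : Tr (List ℕ) := .node ndTree311 ndTree312

def ndTree314 : Tr (List ℕ) := .node (.leaf nd67) (.leaf nd323)

def ndTree315 : Tr (List ℕ) := .node ndTree314 (.leaf nd195)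

def ndTree316 : Tr (List ℕ) := .node ndTree313 ndTree315

def ndTree317 : Tr (List ℕ) := .node (.leaf nd35) (.leaf nd291)

def ndTree318 : Tr (List ℕ) := .node ndTree317 (.leaf nd163)

def ndTree319 : Tr (List ℕ) := .node (.leaf nd99) (.leaf nd355)

def ndTree320 : Tr (List ℕ) := .node ndTree319 (.leaf nd227)

def ndTree321 : Tr (List ℕ) := .node ndTree318 ndTree320

def ndTree322 : Tr (List ℕ) := .node ndTree316 ndTree321

def ndTree323 : Tr (List ℕ) := .node (.leaf nd19) (.leaf nd275)

def ndTree324 : Tr (List ℕ) := .node (.leaf nd147) (.leaf nd403)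

def ndTree325 : Tr (List ℕ) := .node ndTree323 ndTree324

def ndTree326 : Tr (List ℕ) := .node (.leaf nd83) (.leaf nd339)

def ndTree327 : Tr (List ℕ) := .node ndTree326 (.leaf nd211)

def ndTree328 : Tr (List ℕ) := .node ndTree325 ndTree327

def ndTree329 : Tr (List ℕ) := .node (.leaf nd51) (.leaf nd307)

def ndTree330 : Tr (List ℕ) := .node ndTree329 (.leaf nd179)

def ndTree331 : Tr (List ℕ) := .node (.leaf nd115) (.leaf nd371)

def ndTree332 : Tr (List ℕ) := .node ndTree331 (.leaf nd243)

def ndTree333 : Tr (List ℕ) := .node ndTree330 ndTree332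

def ndTree334 : Tr (List ℕ) := .node ndTree328 ndTree333

def ndTree335 : Tr (List ℕ) := .node ndTree322 ndTree334

def ndTree336 : Tr (List ℕ) := .node (.leaf nd11) (.leaf nd267)

def ndTree337 : Tr (List ℕ) := .node (.leaf nd139) (.leaf nd395)

def ndTree338 : Tr (List ℕ) := .node ndTree336 ndTree337

def ndTree339 : Tr (List ℕ) := .node (.leaf nd75) (.leaf nd331)

def ndTree340 : Tr (List ℕ) := .node ndTree339 (.leaf nd203)

def ndTree341 : Tr (List ℕ) := .node ndTree338 ndTree340

def ndTree342 : Tr (List ℕ) := .node (.leaf nd43) (.leaf nd299)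

def ndTree343 : Tr (List ℕ) := .node ndTree342 (.leaf nd171)

def ndTree344 : Tr (List ℕ) := .node (.leaf nd107) (.leaf nd363)

def ndTree345 : Tr (List ℕ) := .node ndTree344 (.leaf nd235)

def ndTree346 : Tr (List ℕ) := .node ndTree343 ndTree345

def ndTree347 : Tr (List ℕ) := .node ndTree341 ndTree346

def ndTree348 : Tr (List ℕ) := .node (.leaf nd27) (.leaf nd283)

def ndTree349 : Tr (List ℕ) := .node (.leaf nd155) (.leaf nd411)

def ndTree350 : Tr (List ℕ) := .node ndTree348 ndTree349

def ndTree351 : Tr (List ℕ) := .node (.leaf nd91) (.leaf nd347)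

def ndTree352 : Tr (List ℕ) := .node ndTree351 (.leaf nd219)

def ndTree353 : Tr (List ℕ) := .node ndTree350 ndTree352

def ndTree354 : Tr (List ℕ) := .node (.leaf nd59) (.leaf nd315)

def ndTree355 : Tr (List ℕ) := .node ndTree354 (.leaf nd187)

def ndTree356 : Tr (List ℕ) := .node (.leaf nd123) (.leaf nd379)

def ndTree357 : Tr (List ℕ) := .node ndTree356 (.leaf nd251)

def ndTree358 : Tr (List ℕ) := .node ndTree355 ndTree357

def ndTree359 : Tr (List ℕ) := .node ndTree353 ndTree358

def ndTree360 : Tr (List ℕ) := .node ndTree347 ndTree359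

def ndTree361 : Tr (List ℕ) := .node ndTree335 ndTree360

def ndTree362 : Tr (List ℕ) := .node (.leaf nd7) (.leaf nd263)

def ndTree363 : Tr (List ℕ) := .node (.leaf nd135) (.leaf nd391)

def ndTree364 : Tr (List ℕ) := .node ndTree362 ndTree363

def ndTree365 : Tr (List ℕ) := .node (.leaf nd71) (.leaf nd327)

def ndTree366 : Tr (List ℕ) := .node ndTree365 (.leaf nd199)

def ndTree367 : Tr (List ℕ) := .node ndTree364 ndTree366

def ndTree368 : Tr (List ℕ) := .node (.leaf nd39) (.leaf nd295)

def ndTree369 : Tr (List ℕ) := .node ndTree368 (.leaf nd167)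

def ndTree370 : Tr (List ℕ) := .node (.leaf nd103) (.leaf nd359)

def ndTree371 : Tr (List ℕ) := .node ndTree370 (.leaf nd231)

def ndTree372 : Tr (List ℕ) := .node ndTree369 ndTree371

def ndTree373 : Tr (List ℕ) := .node ndTree367 ndTree372

def ndTree374 : Tr (List ℕ) := .node (.leaf nd23) (.leaf nd279)

def ndTree375 : Tr (List ℕ) := .node (.leaf nd151) (.leaf nd407)

def ndTree376 : Tr (List ℕ) := .node ndTree374 ndTree375

def ndTree377 : Tr (List ℕ) := .node (.leaf nd87) (.leaf nd343)

def ndTree378 : Tr (List ℕ) := .node ndTree377 (.leaf nd215)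

def ndTree379 : Tr (List ℕ) := .node ndTree376 ndTree378

def ndTree380 : Tr (List ℕ) := .node (.leaf nd55) (.leaf nd311)

def ndTree381 : Tr (List ℕ) := .node ndTree380 (.leaf nd183)

def ndTree382 : Tr (List ℕ) := .node (.leaf nd119) (.leaf nd375)

def ndTree383 : Tr (List ℕ) := .node ndTree382 (.leaf nd247)

def ndTree384 : Tr (List ℕ) := .node ndTree381 ndTree383

def ndTree385 : Tr (List ℕ) := .node ndTree379 ndTree384

def ndTree386 : Tr (List ℕ) := .node ndTree373 ndTree385

def ndTree387 : Tr (List ℕ) := .node (.leaf nd15) (.leaf nd271)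

def ndTree388 : Tr (List ℕ) := .node (.leaf nd143) (.leaf nd399)

def ndTree389 : Tr (List ℕ) := .node ndTree387 ndTree388

def ndTree390 : Tr (List ℕ) := .node (.leaf nd79) (.leaf nd335)

def ndTree391 : Tr (List ℕ) := .node ndTree390 (.leaf nd207)

def ndTree392 : Tr (List ℕ) := .node ndTree389 ndTree391

def ndTree393 : Tr (List ℕ) := .node (.leaf nd47) (.leaf nd303)

def ndTree394 : Tr (List ℕ) := .node ndTree393 (.leaf nd175)

def ndTree395 : Tr (List ℕ) := .node (.leaf nd111) (.leaf nd367)

def ndTree396 : Tr (List ℕ) := .node ndTree395 (.leaf nd239)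

def ndTree397 : Tr (List ℕ) := .node ndTree394 ndTree396

def ndTree398 : Tr (List ℕ) := .node ndTree392 ndTree397

def ndTree399 : Tr (List ℕ) := .node (.leaf nd31) (.leaf nd287)

def ndTree400 : Tr (List ℕ) := .node (.leaf nd159) (.leaf nd415)

def ndTree401 : Tr (List ℕ) := .node ndTree399 ndTree400

def ndTree402 : Tr (List ℕ) := .node (.leaf nd95) (.leaf nd351)

def ndTree403 : Tr (List ℕ) := .node ndTree402 (.leaf nd223)

def ndTree404 : Tr (List ℕ) := .node ndTree401 ndTree403

def ndTree405 : Tr (List ℕ) := .node (.leaf nd63) (.leaf nd319)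

def ndTree406 : Tr (List ℕ) := .node ndTree405 (.leaf nd191)

def ndTree407 : Tr (List ℕ) := .node (.leaf nd127) (.leaf nd383)

def ndTree408 : Tr (List ℕ) := .node ndTree407 (.leaf nd255)

def ndTree409 : Tr (List ℕ) := .node ndTree406 ndTree408

def ndTree410 : Tr (List ℕ) := .node ndTree404 ndTree409

def ndTree411 : Tr (List ℕ) := .node ndTree398 ndTree410

def ndTree412 : Tr (List ℕ) := .node ndTree386 ndTree411

def ndTree413 : Tr (List ℕ) := .node ndTree361 ndTree412

def ndTree414 : Tr (List ℕ) := .node ndTree310 ndTree413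

def ndTree415 : Tr (List ℕ) := .node ndTree207 ndTree414

/-- The table of the nodes. -/
def ndTab : Tr (List ℕ) := ndTree415

/-- The products. -/
def ndProg0 : List (ℕ × ℕ) := [(483, 172), (548, 291), (549, 291), (486, 172), (551, 172), (552, 172), (553, 172), (554, 172), (555, 172), (556, 291), (557, 172), (558, 172), (559, 172), (560, 172), (561, 172), (499, 499), (490, 490), (564, 564), (490, 564), (566, 565), (349, 567), (568, 499), (569, 569), (570, 570), (569, 570), (572, 571), (573, 563), (569, 550), (575, 574), (550, 550), (577, 577), (550, 578), (579, 579), (580, 580), (581, 581), (580, 582), (583, 576), (584, 584), (585, 562), (571, 571), (571, 587), (588, 499), (0, 1), (1, 590), (591, 1), (511, 592), (593, 593), (594, 594), (595, 595), (594, 596), (592, 597), (3, 2), (0, 599), (1, 600), (23, 2), (3, 602), (603, 601), (602, 604), (601, 604), (604, 606), (603, 1), (3, 592), (609, 608), (610, 607), (611, 605), (511, 612), (612, 612), (614, 614), (615, 615), (616, 616), (615, 617), (511, 618), (619, 613),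 (620, 620), (621, 621), (620, 622), (612, 623), (624, 598), (511, 610), (610, 610)]

/-- The products. -/
def ndProg1 : List (ℕ × ℕ) := [(627, 627), (628, 628), (629, 629), (630, 630), (511, 631), (632, 626), (633, 633), (634, 634), (633, 635), (610, 636), (637, 625), (511, 602), (602, 602), (640, 640), (641, 641), (642, 642), (643, 643), (641, 644), (511, 645), (646, 639), (647, 647), (648, 648), (647, 649), (602, 650), (651, 638), (624, 624), (653, 653), (624, 653), (655, 654), (656, 652), (511, 605), (605, 605), (659, 659), (660, 660), (661, 661), (659, 660), (663, 662), (511, 664), (665, 658), (666, 666), (605, 667), (668, 668), (668, 669), (670, 511), (671, 651), (598, 672), (609, 601), (511, 674), (674, 674), (674, 676), (511, 677), (678, 675), (679, 679), (680, 680), (679, 681), (674, 682), (683, 673), (684, 657), (607, 29), (686, 608), (610, 687), (511, 688), (688, 688), (690, 690), (691, 691), (692, 692), (693, 693), (690, 692), (695, 694), (511, 696), (697, 689), (698, 698), (688, 699), (700, 700), (701,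 701), (700, 701), (703, 702), (511, 686), (686, 686), (706, 706)]

/-- The products. -/
def ndProg2 : List (ℕ × ℕ) := [(707, 707), (708, 708), (709, 709), (706, 710), (511, 711), (712, 705), (713, 713), (714, 714), (713, 715), (686, 716), (717, 717), (718, 718), (717, 718), (720, 719), (671, 721), (722, 704), (704, 671), (724, 624), (725, 723), (726, 685), (495, 568), (728, 495), (729, 1), (729, 2), (731, 730), (732, 732), (733, 733), (734, 734), (735, 735), (733, 736), (1, 737), (738, 738), (739, 739), (740, 740), (738, 739), (742, 740), (743, 741), (4, 645), (745, 1), (645, 745), (747, 645), (748, 746), (0, 604), (750, 749), (729, 751), (751, 751), (753, 753), (754, 754), (755, 755), (751, 754), (757, 755), (758, 756), (729, 759), (760, 752), (761, 761), (762, 762), (763, 763), (761, 762), (765, 764), (751, 766), (767, 767), (768, 768), (769, 769), (767, 769), (771, 770), (772, 744), (738, 773), (729, 750), (729, 23), (776, 775), (777, 777), (778, 778), (779, 779), (777, 778), (781, 780), (750, 782), (783, 783),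 (784, 784), (785, 785), (783, 784)]

/-- The products. -/
def ndProg3 : List (ℕ × ℕ) := [(787, 785), (788, 786), (789, 774), (729, 749), (749, 749), (729, 792), (793, 791), (794, 794), (795, 795), (796, 796), (794, 795), (798, 796), (799, 797), (749, 800), (801, 801), (802, 802), (803, 803), (801, 802), (805, 804), (0, 3), (729, 807), (808, 808), (809, 809), (807, 810), (801, 811), (812, 806), (604, 21), (750, 814), (729, 815), (815, 815), (815, 817), (729, 818), (819, 816), (820, 820), (821, 821), (822, 822), (820, 821), (824, 822), (825, 823), (815, 826), (789, 827), (828, 801), (829, 813), (830, 790), (508, 831), (832, 727), (833, 589), (0, 591), (835, 1), (836, 1), (837, 4), (1, 745), (839, 838), (503, 568), (841, 840), (840, 840), (843, 843), (844, 844), (845, 845), (846, 846), (840, 843), (848, 844), (849, 847), (841, 850), (851, 842), (852, 852), (853, 853), (854, 854), (855, 855), (853, 856), (840, 857), (837, 838), (841, 859), (860, 860), (861, 861), (862, 862), (863, 863), (864, 864), (859, 865), (866,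 858)]

/-- The products. -/
def ndProg4 : List (ℕ × ℕ) := [(841, 838), (171, 171), (869, 869), (870, 870), (171, 869), (872, 871), (873, 873), (874, 874), (875, 875), (873, 874), (877, 876), (841, 878), (879, 868), (880, 880), (881, 881), (882, 882), (881, 882), (884, 883), (838, 885), (886, 867), (841, 23), (841, 750), (889, 888), (890, 890), (891, 891), (892, 892), (890, 891), (894, 892), (895, 893), (23, 896), (897, 897), (898, 898), (899, 899), (897, 899), (901, 900), (902, 887), (23, 859), (841, 904), (904, 904), (906, 906), (907, 907), (908, 908), (909, 909), (841, 910), (911, 905), (912, 912), (913, 913), (914, 914), (913, 914), (916, 915), (904, 917), (859, 5), (841, 919), (841, 873), (921, 920), (922, 922), (923, 923), (924, 924), (922, 923), (926, 924), (927, 925), (919, 928), (929, 929), (930, 930), (929, 930), (932, 931), (933, 918), (933, 934), (935, 903), (836, 750), (840, 937), (841, 938), (938, 938), (940, 940), (941, 941), (942, 942), (940, 941), (944, 942), (945, 943), (841, 946)]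

/-- The products. -/
def ndProg5 : List (ℕ × ℕ) := [(947, 939), (948, 948), (949, 949), (950, 950), (951, 951), (949, 952), (938, 953), (954, 954), (955, 955), (956, 956), (954, 956), (958, 957), (918, 959), (960, 929), (961, 866), (933, 962), (963, 936)]

end Cfsg.Lib.J4NonLocal.UEleven
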